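import Groth.Agent.Lib.Helper19.GorSp.Main
import Groth.Agent.Lib.Helper12.EtStalk2
import Groth.Agent.Lib.Helper15.AlgSpTop

/-!
# Gorenstein morphisms of algebraic spaces: characterisation through fibres of étale charts
-/

set_option autoImplicit false
set_option linter.style.haveILetI false
universe u
open CategoryTheory CategoryTheory.Limits AlgebraicGeometry MorphismProperty
open AlgSp Groth.Agent.Helper15 Groth.Agent.Helper16.AS

namespace Groth.Agent.Helper19.GorSp

variable {S : Scheme.{u}}

/-- a statement about all points of all fibres reduces to a statement about points of the source -/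
theorem forall_fiber_of_forall_asFiber {U V : Scheme.{u}} (h : U ⟶ V)
    (P : ∀ v : V, h.fiber v → Prop) (H : ∀ u : U, P (h u) (h.asFiber u)) (v : V) (w : h.fiber v) :
    P v w := by
  have hw : w = (h.fiberHomeo v).symm (h.fiberHomeo v w) :=
    ((h.fiberHomeo v).symm_apply_apply w).symm
  generalize h.fiberHomeo v w = x at hw
  obtain ⟨u, hu⟩ := x
  have hu' : h u = v := hu
  subst hu'
  subst hw
  exact H u

/-- the scheme-theoretic fibre of a chart morphism is an étale chart of the fibre of `f` -/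
theorem exists_fiber_chart {X Y : Sp S} (hX : IsAlgSpace X) (hY : IsAlgSpace Y) (f : X ⟶ Y)
    {U V : Over S} (a : (yon S).obj U ⟶ X) (b : (yon S).obj V ⟶ Y) (h : U ⟶ V)
    (ha : RepWith @Etale a) (hb : RepWith @Etale b) (comm : a ≫ f = (yon S).map h ≫ b)
    (v : V.left) (Xv : Sp S) (a' : Xv ⟶ X)
    (c : Xv ⟶ (yon S).obj (Over.mk (V.left.fromSpecResidueField v ≫ V.hom)))
    (sq : IsPullback a' c f ((yon S).map (Over.homMk (V.left.fromSpecResidueField v) rfl :
              Over.mk (V.left.fromSpecResidueField v ≫ V.hom) ⟶ V) ≫ b)) :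
    ∃ t : (yon S).obj (Over.mk (h.left.fiberι v ≫ U.hom)) ⟶ Xv, RepWith @Etale t ∧
      (RepWith @Surjective (pullback.lift a ((yon S).map h) comm :
        (yon S).obj U ⟶ pullback f b) → RepWith @Surjective t) := by
  let P : Over S := Over.mk (V.left.fromSpecResidueField v ≫ V.hom)
  let ι : P ⟶ V := Over.homMk (V.left.fromSpecResidueField v) rfl
  let T : Over S := Over.mk (h.left.fiberι v ≫ U.hom)
  let pT : T ⟶ U := Over.homMk (h.left.fiberι v) rfl
  let qT : T ⟶ P := Over.homMk (h.left.fiberToSpecResidueField v) (by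
    change h.left.fiberToSpecResidueField v ≫ V.left.fromSpecResidueField v ≫ V.hom =
      h.left.fiberι v ≫ U.hom
    rw [← Category.assoc, ← h.left.fiber_fac v, Category.assoc, Over.w h])
  have sqT : IsPullback pT qT h ι := by
    refine IsPullback.of_map (Over.forget S) ?_ ?_
    · apply Over.OverMorphism.ext
      exact h.left.fiber_fac v
    · exact IsPullback.of_hasPullback h.left (V.left.fromSpecResidueField v)
  have sqT' := sqT.map (yon S)
  have hw : ((yon S).map pT ≫ a) ≫ f = (yon S).map qT ≫ ((yon S).map ι ≫ b) := by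
    rw [Category.assoc, comm, ← Category.assoc, ← Category.assoc, sqT'.w]
  let t : (yon S).obj T ⟶ Xv := sq.lift ((yon S).map pT ≫ a) ((yon S).map qT) hw
  let m : Xv ⟶ pullback f b := pullback.lift a' (c ≫ (yon S).map ι) (by
      rw [sq.w, Category.assoc])
  have sqR : IsPullback m c (pullback.snd f b) ((yon S).map ι) := by
    refine IsPullback.of_right (h₁₂ := pullback.fst f b) (v₁₃ := f) (h₂₂ := b) ?_ ?_
      (IsPullback.of_hasPullback f b)
    · rw [pullback.lift_fst]
      exact sq
    · rw [pullback.lift_snd]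
  have hc := repWith_etale_chart_lift hX hY f a b h ha hb comm
  have sqTop : IsPullback ((yon S).map pT) t (pullback.lift a ((yon S).map h) comm) m := by
    refine IsPullback.of_bot ?_ ?_ sqR
    · rw [pullback.lift_snd, sq.lift_snd]
      exact sqT'
    · apply pullback.hom_ext
      · rw [Category.assoc, pullback.lift_fst, Category.assoc, pullback.lift_fst,
          sq.lift_fst]
      · rw [Category.assoc, pullback.lift_snd, Category.assoc, pullback.lift_snd,
          ← Category.assoc, sq.lift_snd, sqT'.w]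
  exact ⟨t, (RepWith @Etale).of_isPullback sqTop hc,
    fun hs => (RepWith @Surjective).of_isPullback sqTop hs⟩

/-- an étale surjective scheme chart of `X ×_Y V` and the associated chart diagram -/
theorem exists_chart_of_base {X Y : Sp S} (hX : IsAlgSpace X) (hY : IsAlgSpace Y) (f : X ⟶ Y)
    {V : Over S} (b : (yon S).obj V ⟶ Y) (hb : RepWith @Etale b) :
    ∃ (U : Over S) (a : (yon S).obj U ⟶ X) (h : U ⟶ V) (comm : a ≫ f = (yon S).map h ≫ b),
      RepWith @Etale a ∧ (RepWith @Surjective b → RepWith @Surjective a) ∧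
      RepWith @Surjective (pullback.lift a ((yon S).map h) comm :
        (yon S).obj U ⟶ pullback f b) := by
  have hXV : IsAlgSpace (pullback f b) := isAlgSpace_pullback hX hY (IsAlgSpace.yon_obj V) f b
  obtain ⟨U, α, hαe, hαs⟩ := hXV.atlas
  obtain ⟨h, hh⟩ := (yon S).map_surjective (α ≫ pullback.snd f b)
  have hpre : RepWith @Etale (pullback.fst f b) :=
    (RepWith @Etale).of_isPullback (IsPullback.of_hasPullback f b).flip hb
  have comm : (α ≫ pullback.fst f b) ≫ f = (yon S).map h ≫ b := by
    rw [hh, Category.assoc, Category.assoc, pullback.condition]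
  have hlift : pullback.lift (α ≫ pullback.fst f b) ((yon S).map h) comm = α := by
    apply pullback.hom_ext
    · rw [pullback.lift_fst]
    · rw [pullback.lift_snd, hh]
  refine ⟨U, α ≫ pullback.fst f b, h, comm, (RepWith @Etale).comp_mem _ _ hαe hpre, ?_, ?_⟩
  · intro hbs
    exact (RepWith @Surjective).comp_mem _ _ hαs
      ((RepWith @Surjective).of_isPullback (IsPullback.of_hasPullback f b).flip hbs)
  · rw [hlift]
    exact hαs

/-- if `f` is Gorenstein at all points, the fibres of its base changes to étale scheme charts are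
Gorenstein -/
theorem fibres_gor_of_gorAt {X Y : Sp S} (hX : IsAlgSpace X) (hY : IsAlgSpace Y) (f : X ⟶ Y)
    (hf : FibNoeth f)
    (H : ∀ x : Points X, LocPAt (fun h u => Dual3.IsGorensteinAt h u) f x)
    {V : Over S} (b : (yon S).obj V ⟶ Y) (hb : RepWith @Etale b)
    (v : V.left) (Xv : Sp S) (a' : Xv ⟶ X)
    (c : Xv ⟶ (yon S).obj (Over.mk (V.left.fromSpecResidueField v ≫ V.hom)))
    (sq : IsPullback a' c f ((yon S).map (Over.homMk (V.left.fromSpecResidueField v) rfl :
              Over.mk (V.left.fromSpecResidueField v ≫ V.hom) ⟶ V) ≫ b)) :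
    EtaleLocally Dual3.IsGorenstein Xv := by
  obtain ⟨U, a, h, comm, ha, -, hs⟩ := exists_chart_of_base hX hY f b hb
  obtain ⟨t, hte, hts⟩ := exists_fiber_chart hX hY f a b h ha hb comm v Xv a' c sq
  refine ⟨_, t, hte, hts hs, ?_, ?_⟩
  · exact isLocallyNoetherian_chart_fiber hX hY f hf a b h ha hb comm v
  · intro w
    exact forall_fiber_of_forall_asFiber h.left
      (fun v w => LocCoh.IsGorensteinLocalRing ((h.left.fiber v).presheaf.stalk w))
      (fun u => (H (Points.ofPt a u) a b h u ha hb comm rfl).2) v w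

/-- if `f` is flat and the fibres of its base change to one étale surjective scheme chart are
Gorenstein, then `f` is Gorenstein at all points -/
theorem gorAt_of_fibres_gor {X Y : Sp S} (hX : IsAlgSpace X) (hY : IsAlgSpace Y) (f : X ⟶ Y)
    (hf : FibNoeth f) (hflat : LocP @Flat f)
    {V : Over S} (b : (yon S).obj V ⟶ Y) (hbe : RepWith @Etale b) (hbs : RepWith @Surjective b)
    (H : ∀ (v : V.left) (Xv : Sp S) (a' : Xv ⟶ X)
      (c : Xv ⟶ (yon S).obj (Over.mk (V.left.fromSpecResidueField v ≫ V.hom))),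
      IsPullback a' c f ((yon S).map (Over.homMk (V.left.fromSpecResidueField v) rfl :
              Over.mk (V.left.fromSpecResidueField v ≫ V.hom) ⟶ V) ≫ b) →
      EtaleLocally Dual3.IsGorenstein Xv)
    (x : Points X) : LocPAt (fun h u => Dual3.IsGorensteinAt h u) f x := by
  obtain ⟨U, a, h, comm, ha, has, -⟩ := exists_chart_of_base hX hY f b hbe
  obtain ⟨u, rfl⟩ := surjective_ofPt a (has hbs) x
  rw [locPAt_gor_iff hX hY f hf a b h ha hbe comm u]
  haveI : Flat h.left := hflat a b h ha hbe comm
  refine ⟨Flat.stalkMap h.left u, ?_⟩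
  have sq := IsPullback.of_hasPullback f
    ((yon S).map (Over.homMk (V.left.fromSpecResidueField (h.left u)) rfl :
      Over.mk (V.left.fromSpecResidueField (h.left u) ≫ V.hom) ⟶ V) ≫ b)
  obtain ⟨W, p, hpe, hps, hWn, hWg⟩ := H (h.left u) _ _ _ sq
  obtain ⟨t, hte, -⟩ := exists_fiber_chart hX hY f a b h ha hbe comm (h.left u) _ _ _ sq
  obtain ⟨R, snd, fst, sqR⟩ := hpe.rep t
  obtain ⟨fst', rfl⟩ := (yon S).map_surjective fst
  haveI : Etale snd.left := hpe.2 t _ snd sqR
  haveI : Surjective snd.left := hps.2 t _ snd sqR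
  haveI : Etale fst'.left := hte.2 p _ fst' sqR.flip
  haveI : IsLocallyNoetherian W.left := hWn
  haveI : IsLocallyNoetherian R.left := LocallyOfFiniteType.isLocallyNoetherian fst'.left
  haveI : IsLocallyNoetherian (Over.mk (h.left.fiberι (h.left u) ≫ U.hom)).left :=
    isLocallyNoetherian_chart_fiber hX hY f hf a b h ha hbe comm (h.left u)
  obtain ⟨r, hr⟩ := snd.left.surjective (h.left.asFiber u)
  have h1 : LocCoh.IsGorensteinLocalRing (R.left.presheaf.stalk r) :=
    (Groth.Agent.Helper12.EtStalk.gor_stalk_iff_of_etale fst'.left r).2 (hWg _)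
  have h2 := (Groth.Agent.Helper12.EtStalk.gor_stalk_iff_of_etale snd.left r).1 h1
  rw [hr] at h2
  exact h2

/-- the characterisation of Gorenstein morphisms through the fibres of étale charts -/
theorem gor_tfae {X Y : Sp S} (hX : IsAlgSpace X) (hY : IsAlgSpace Y) (f : X ⟶ Y)
    (hf : FibNoeth f) :
    [∀ x : AlgSp.Points X, AlgSp.LocPAt (fun h u => Dual3.IsGorensteinAt h u) f x,
      AlgSp.LocP @Flat f ∧ ∃ (V : Over S) (b : (AlgSp.yon S).obj V ⟶ Y),
        AlgSp.RepWith @Etale b ∧ AlgSp.RepWith @Surjective b ∧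
          ∀ (v : ↥V.left) (Xv : AlgSp.Sp S) (a : Xv ⟶ X)
            (c : Xv ⟶ (AlgSp.yon S).obj (Over.mk (V.left.fromSpecResidueField v ≫ V.hom))),
            IsPullback a c f ((AlgSp.yon S).map (Over.homMk (V.left.fromSpecResidueField v) rfl :
              Over.mk (V.left.fromSpecResidueField v ≫ V.hom) ⟶ V) ≫ b) →
            AlgSp.EtaleLocally Dual3.IsGorenstein Xv,
      AlgSp.LocP @Flat f ∧ ∀ (V : Over S) (b : (AlgSp.yon S).obj V ⟶ Y), AlgSp.RepWith @Etale b →
          ∀ (v : ↥V.left) (Xv : AlgSp.Sp S) (a : Xv ⟶ X)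
            (c : Xv ⟶ (AlgSp.yon S).obj (Over.mk (V.left.fromSpecResidueField v ≫ V.hom))),
            IsPullback a c f ((AlgSp.yon S).map (Over.homMk (V.left.fromSpecResidueField v) rfl :
              Over.mk (V.left.fromSpecResidueField v ≫ V.hom) ⟶ V) ≫ b) →
            AlgSp.EtaleLocally Dual3.IsGorenstein Xv].TFAE := by
  tfae_have 1 → 3 := by
    intro H
    refine ⟨?_, fun V b hb v Xv a c sq => fibres_gor_of_gorAt hX hY f hf H b hb v Xv a c sq⟩
    intro U V a b h ha hb comm
    rw [Flat.iff_flat_stalkMap]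
    intro u
    exact (H (Points.ofPt a u) a b h u ha hb comm rfl).1
  tfae_have 3 → 2 := by
    rintro ⟨hfl, H⟩
    obtain ⟨V, b, hbe, hbs⟩ := hY.atlas
    exact ⟨hfl, V, b, hbe, hbs, H V b hbe⟩
  tfae_have 2 → 1 := by
    rintro ⟨hfl, V, b, hbe, hbs, H⟩ x
    exact gorAt_of_fibres_gor hX hY f hf hfl b hbe hbs H x
  tfae_finish

end Groth.Agent.Helper19.GorSp
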