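import Groth.Agent.Lib.Helper19.GorSp.Fib
import Groth.Agent.Lib.Helper15.AlgSpTop
import Groth.Prelude.Def_AlgSpMor5

set_option autoImplicit false
set_option linter.style.haveILetI false
universe u
open CategoryTheory CategoryTheory.Limits AlgebraicGeometry MorphismProperty
open AlgSp Groth.Agent.Helper15 Groth.Agent.Helper16.AS

namespace Groth.Agent.Helper19.GorSp

/-- Gorenstein-ness at a point is insensitive to etale localisation on source and target -/
theorem gorAt_of_square {U V P Q : Scheme.{u}} (h : U ⟶ V) (k : P ⟶ Q) (p : P ⟶ U) (q : Q ⟶ V)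
    [Etale p] [Etale q] (w : k ≫ q = p ≫ h) (hfib : ∀ v, IsLocallyNoetherian (h.fiber v))
    (z : P) : Dual3.IsGorensteinAt k z ↔ Dual3.IsGorensteinAt h (p z) := by
  have sq : IsPullback (pullback.fst h q) (pullback.snd h q) h q := IsPullback.of_hasPullback h q
  let m : P ⟶ pullback h q := pullback.lift p k w.symm
  have hm1 : m ≫ pullback.fst h q = p := pullback.lift_fst _ _ _
  have hm2 : m ≫ pullback.snd h q = k := pullback.lift_snd _ _ _
  haveI : Etale (pullback.fst h q) := MorphismProperty.pullback_fst (P := @Etale) _ _ inferInstance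
  haveI : Etale (m ≫ pullback.fst h q) := by rw [hm1]; infer_instance
  haveI : Etale m := Etale.of_comp m (pullback.fst h q)
  have hfib' : ∀ y, IsLocallyNoetherian ((pullback.snd h q).fiber y) :=
    fun y => isLocallyNoetherian_fiber_baseChange sq hfib y
  have e1 := gorAt_etale_comp m (pullback.snd h q) hfib' z
  have e2 := gorAt_baseChange_etale sq hfib (m z)
  rw [hm2] at e1
  rw [e1, e2, ← Scheme.Hom.comp_apply, hm1]

variable {S : Scheme.{u}}

/-- **Chart independence** of Gorenstein-ness at a point -/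
theorem gorAt_chart_indep {X Y : Sp S} (hX : IsAlgSpace X) (hY : IsAlgSpace Y) (f : X ⟶ Y)
    (hf : FibNoeth f)
    {U V U' V' : Over S} (a : (yon S).obj U ⟶ X) (b : (yon S).obj V ⟶ Y) (h : U ⟶ V)
    (a' : (yon S).obj U' ⟶ X) (b' : (yon S).obj V' ⟶ Y) (h' : U' ⟶ V')
    (ha : RepWith @Etale a) (hb : RepWith @Etale b) (ha' : RepWith @Etale a')
    (hb' : RepWith @Etale b') (comm : a ≫ f = (yon S).map h ≫ b)
    (comm' : a' ≫ f = (yon S).map h' ≫ b') (u : U.left) (u' : U'.left)
    (hx : Points.ofPt a u = Points.ofPt a' u') :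
    Dual3.IsGorensteinAt h.left u ↔ Dual3.IsGorensteinAt h'.left u' := by
  have hrepa := ha.rep
  have hrepb := hb.rep
  have sqP := hrepa.isPullback' a'
  have sqQ := hrepb.isPullback' b'
  haveI hp₁ : Etale (hrepa.fst' a').left :=
    (repWith_yon_map_iff _ _).1 ((RepWith @Etale).of_isPullback sqP.flip ha')
  haveI hp₂ : Etale (hrepa.snd a').left :=
    (repWith_yon_map_iff _ _).1 ((RepWith @Etale).of_isPullback sqP ha)
  haveI hq₁ : Etale (hrepb.fst' b').left :=
    (repWith_yon_map_iff _ _).1 ((RepWith @Etale).of_isPullback sqQ.flip hb')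
  haveI hq₂ : Etale (hrepb.snd b').left :=
    (repWith_yon_map_iff _ _).1 ((RepWith @Etale).of_isPullback sqQ hb)
  obtain ⟨v, hv1, hv2⟩ := exists_of_ofPt_eq sqP u u' hx
  have hk : (yon S).map (hrepa.fst' a' ≫ h) ≫ b = (yon S).map (hrepa.snd a' ≫ h') ≫ b' := by
    rw [Functor.map_comp, Functor.map_comp, Category.assoc, Category.assoc, ← comm, ← comm',
      sqP.w_assoc]
  let k := hrepb.lift' (hrepa.fst' a' ≫ h) (hrepa.snd a' ≫ h') hk
  have hk1 : k ≫ hrepb.fst' b' = hrepa.fst' a' ≫ h := hrepb.lift'_fst _ _ _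
  have hk2 : k ≫ hrepb.snd b' = hrepa.snd a' ≫ h' := hrepb.lift'_snd _ _ _
  have hk1' : k.left ≫ (hrepb.fst' b').left = (hrepa.fst' a').left ≫ h.left :=
    congrArg (fun m => m.left) hk1
  have hk2' : k.left ≫ (hrepb.snd b').left = (hrepa.snd a').left ≫ h'.left :=
    congrArg (fun m => m.left) hk2
  have hfibh := isLocallyNoetherian_chart_fiber hX hY f hf a b h ha hb comm
  have hfibh' := isLocallyNoetherian_chart_fiber hX hY f hf a' b' h' ha' hb' comm'
  have e1 := gorAt_of_square h.left k.left (hrepa.fst' a').left (hrepb.fst' b').left hk1' hfibh v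
  have e2 := gorAt_of_square h'.left k.left (hrepa.snd a').left (hrepb.snd b').left hk2' hfibh' v
  rw [hv1] at e1
  rw [hv2] at e2
  rw [← e1, e2]

/-- Gorenstein-ness at a point can be tested on any one chart diagram through the point -/
theorem locPAt_gor_iff {X Y : Sp S} (hX : IsAlgSpace X) (hY : IsAlgSpace Y) (f : X ⟶ Y)
    (hf : FibNoeth f) {U V : Over S} (a : (yon S).obj U ⟶ X) (b : (yon S).obj V ⟶ Y) (h : U ⟶ V)
    (ha : RepWith @Etale a) (hb : RepWith @Etale b) (comm : a ≫ f = (yon S).map h ≫ b)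
    (u : U.left) :
    LocPAt (fun h u => Dual3.IsGorensteinAt h u) f (Points.ofPt a u) ↔
      Dual3.IsGorensteinAt h.left u := by
  constructor
  · intro H
    exact H a b h u ha hb comm rfl
  · intro H U' V' a' b' h' u' ha' hb' comm' hx'
    exact (gorAt_chart_indep hX hY f hf a b h a' b' h' ha hb ha' hb' comm comm' u u' hx'.symm).1 H

end Groth.Agent.Helper19.GorSp
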