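import Groth.Agent.Lib.Helper19.GorSp.Sch
import Groth.Agent.Lib.Helper15.AlgSpNoeth
import Groth.Agent.Lib.Helper15.AlgSpUnram
import Groth.Agent.Lib.Helper15.AlgSpImm
import Groth.Agent.Lib.Helper16.AlgSp.LocPEngine
import Groth.Agent.Lib.Helper16.AlgSp.LargestOpen
import Groth.Prelude.Def_AlgSpDec

set_option autoImplicit false
set_option linter.style.haveILetI false
universe u
open CategoryTheory CategoryTheory.Limits AlgebraicGeometry MorphismProperty
open AlgSp Groth.Agent.Helper15 Groth.Agent.Helper16.AS

namespace Groth.Agent.Helper19.GorSp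

variable {S : Scheme.{u}}

/-- the fibres of `f` over all field points are locally Noetherian -/
def FibNoeth {X Y : Sp S} (f : X ⟶ Y) : Prop :=
  ∀ (k : FieldPt Y) (Xk : Sp S) (a : Xk ⟶ X) (b : Xk ⟶ (yon S).obj k.pt),
    IsPullback a b f k.toHom → IsLocNoethSp Xk

/-- the diagonal of a representable etale morphism is etale -/
theorem repWith_etale_diagonal {X Y : Sp S} (hX : IsAlgSpace X) (hY : IsAlgSpace Y) (p : X ⟶ Y)
    (hp : RepWith @Etale p) : RepWith @Etale (pullback.diagonal p) :=
  (repWith_diagonal_iff_of_representable _ hX hY p hp.rep).2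
    (repWith_mono (etale_le_lft_unramified.trans lft_unramified_le_diagonal_etale) hp)

/-- the canonical map from a chart to the base change of `X` to the chart of `Y` is etale -/
theorem repWith_etale_chart_lift {X Y : Sp S} (hX : IsAlgSpace X) (hY : IsAlgSpace Y) (f : X ⟶ Y)
    {U V : Over S} (a : (yon S).obj U ⟶ X) (b : (yon S).obj V ⟶ Y) (h : U ⟶ V)
    (ha : RepWith @Etale a) (hb : RepWith @Etale b) (comm : a ≫ f = (yon S).map h ≫ b) :
    RepWith @Etale (pullback.lift a ((yon S).map h) comm : (yon S).obj U ⟶ pullback f b) := by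
  have hXV : IsAlgSpace (pullback f b) := isAlgSpace_pullback hX hY (IsAlgSpace.yon_obj V) f b
  have hpr : RepWith @Etale (pullback.fst f b) :=
    (RepWith @Etale).of_isPullback (IsPullback.of_hasPullback f b).flip hb
  refine repWith_of_comp_of_diagonal _ (pullback.fst f b) ?_
    (repWith_etale_diagonal hXV hX _ hpr)
  rw [pullback.lift_fst]
  exact ha

/-- the fibres of a chart morphism are locally Noetherian -/
theorem isLocallyNoetherian_chart_fiber {X Y : Sp S} (hX : IsAlgSpace X) (hY : IsAlgSpace Y)
    (f : X ⟶ Y) (hf : FibNoeth f)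
    {U V : Over S} (a : (yon S).obj U ⟶ X) (b : (yon S).obj V ⟶ Y) (h : U ⟶ V)
    (ha : RepWith @Etale a) (hb : RepWith @Etale b) (comm : a ≫ f = (yon S).map h ≫ b)
    (v : V.left) : IsLocallyNoetherian (h.left.fiber v) := by
  set k := FieldPt.ofPt b v with hk
  let ι : k.pt ⟶ V := Over.homMk (V.left.fromSpecResidueField v) rfl
  have hkι : k.toHom = (yon S).map ι ≫ b := FieldPt.toHom_ofPt b v
  have hXk : IsLocNoethSp (pullback f k.toHom) := hf k _ _ _ (IsPullback.of_hasPullback f k.toHom)
  let T : Over S := Over.mk (h.left.fiberι v ≫ U.hom)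
  let pT : T ⟶ U := Over.homMk (h.left.fiberι v) rfl
  let qT : T ⟶ k.pt := Over.homMk (h.left.fiberToSpecResidueField v) (by
    change h.left.fiberToSpecResidueField v ≫ V.left.fromSpecResidueField v ≫ V.hom =
      h.left.fiberι v ≫ U.hom
    rw [← Category.assoc, ← h.left.fiber_fac v, Category.assoc, Over.w h])
  have sqT : IsPullback pT qT h ι := by
    refine IsPullback.of_map (Over.forget S) ?_ ?_
    · apply Over.OverMorphism.ext
      exact h.left.fiber_fac v
    · exact IsPullback.of_hasPullback h.left (V.left.fromSpecResidueField v)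
  have sqT' := sqT.map (yon S)
  have hw : ((yon S).map pT ≫ a) ≫ f = (yon S).map qT ≫ k.toHom := by
    rw [Category.assoc, comm, hkι, ← Category.assoc, ← Category.assoc, sqT'.w]
  let t : (yon S).obj T ⟶ pullback f k.toHom := pullback.lift ((yon S).map pT ≫ a)
    ((yon S).map qT) hw
  -- the comparison `X_k ⟶ X_V`
  let m : pullback f k.toHom ⟶ pullback f b := pullback.lift (pullback.fst f k.toHom)
    (pullback.snd f k.toHom ≫ (yon S).map ι) (by
      rw [pullback.condition, hkι, Category.assoc])
  have sqR : IsPullback m (pullback.snd f k.toHom) (pullback.snd f b) ((yon S).map ι) := by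
    refine IsPullback.of_right (h₁₂ := pullback.fst f b) (v₁₃ := f) (h₂₂ := b) ?_ ?_
      (IsPullback.of_hasPullback f b)
    · rw [pullback.lift_fst, ← hkι]
      exact IsPullback.of_hasPullback f k.toHom
    · rw [pullback.lift_snd]
  have hc := repWith_etale_chart_lift hX hY f a b h ha hb comm
  have sqTop : IsPullback ((yon S).map pT) t (pullback.lift a ((yon S).map h) comm) m := by
    refine IsPullback.of_bot ?_ ?_ sqR
    · rw [pullback.lift_snd, pullback.lift_snd]
      exact sqT'
    · apply pullback.hom_ext
      · rw [Category.assoc, pullback.lift_fst, Category.assoc, pullback.lift_fst,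
          pullback.lift_fst]
      · rw [Category.assoc, pullback.lift_snd, Category.assoc, pullback.lift_snd,
          ← Category.assoc, pullback.lift_snd, sqT'.w]
  have ht : RepWith @Etale t := (RepWith @Etale).of_isPullback sqTop hc
  exact isLocallyNoetherian_of_etale_of_isLocNoethSp hXk t ht

end Groth.Agent.Helper19.GorSp
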