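import Groth.Agent.Lib.Helper19.GorSp.CI
import Groth.Agent.Lib.Helper15.ChartBC

set_option autoImplicit false
set_option linter.style.haveILetI false
universe u
open CategoryTheory CategoryTheory.Limits AlgebraicGeometry MorphismProperty
open AlgSp Groth.Agent.Helper15 Groth.Agent.Helper16.AS

namespace Groth.Agent.Helper19.GorSp

variable {S : Scheme.{u}}

/-- composition and Gorenstein-ness at a point -/
theorem gorAt_comp {X Y Z : Sp S} (hX : IsAlgSpace X) (hY : IsAlgSpace Y) (hZ : IsAlgSpace Z)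
    (f : X ⟶ Y) (g : Y ⟶ Z) (hf : FibNoeth f) (hg : FibNoeth g) (hfg : FibNoeth (f ≫ g))
    (x : Points X) :
    (LocPAt (fun h u => Dual3.IsGorensteinAt h u) f x →
        LocPAt (fun h u => Dual3.IsGorensteinAt h u) g (Points.map f x) →
        LocPAt (fun h u => Dual3.IsGorensteinAt h u) (f ≫ g) x) ∧
      (LocPAt (fun h u => Dual3.IsGorensteinAt h u) (f ≫ g) x → IsFlatAtMor f x →
        LocPAt (fun h u => Dual3.IsGorensteinAt h u) f x ∧
          LocPAt (fun h u => Dual3.IsGorensteinAt h u) g (Points.map f x)) := by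
  obtain ⟨W₀, qW, hqWe, hqWs⟩ := hZ.atlas
  obtain ⟨V₀, qV, b₀, hqVe, hqVs, hcV⟩ := exists_chart_lift hY g qW hqWe hqWs
  obtain ⟨U₀, qU, a₀, hqUe, hqUs, hcU⟩ := exists_chart_lift hX f qV hqVe hqVs
  have hcUW : qU ≫ f ≫ g = (yon S).map (a₀ ≫ b₀) ≫ qW := by
    rw [← Category.assoc, hcU, Category.assoc, hcV, Functor.map_comp, Category.assoc]
  obtain ⟨u, rfl⟩ := surjective_ofPt qU hqUs x
  have hfx : Points.map f (Points.ofPt qU u) = Points.ofPt qV (a₀.left u) := by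
    rw [Points.map_ofPt, hcU, ofPt_comp_yon_map]
  have hB := isLocallyNoetherian_chart_fiber hY hZ g hg qV qW b₀ hqVe hqWe hcV
  have hAB := isLocallyNoetherian_chart_fiber hX hZ (f ≫ g) hfg qU qW (a₀ ≫ b₀) hqUe hqWe hcUW
  obtain ⟨h1, h2⟩ := Groth.Agent.Helper12.GorSch.comp a₀.left b₀.left hB hAB u
  rw [hfx, locPAt_gor_iff hX hY f hf qU qV a₀ hqUe hqVe hcU u,
    locPAt_gor_iff hY hZ g hg qV qW b₀ hqVe hqWe hcV (a₀.left u),
    locPAt_gor_iff hX hZ (f ≫ g) hfg qU qW (a₀ ≫ b₀) hqUe hqWe hcUW u]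
  exact ⟨h1, fun H hfl => h2 H (hfl qU qV a₀ u hqUe hqVe hcU rfl)⟩

/-- the fibres of a base change are fibres of the original morphism -/
theorem FibNoeth.of_isPullback {X Y X' Y' : Sp S} {f : X ⟶ Y} {g : Y' ⟶ Y} {g' : X' ⟶ X}
    {f' : X' ⟶ Y'} (hsq : IsPullback g' f' f g) (hf : FibNoeth f) : FibNoeth f' := by
  intro k Xk a b sq
  refine hf (k.map g) Xk (a ≫ g') b ?_
  rw [FieldPt.toHom_map]
  exact sq.paste_horiz hsq

/-- base change and Gorenstein-ness at a point -/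
theorem gorAt_baseChange {X Y X' Y' : Sp S} (hX : IsAlgSpace X) (hY : IsAlgSpace Y)
    (hX' : IsAlgSpace X') (hY' : IsAlgSpace Y') (f : X ⟶ Y) (g : Y' ⟶ Y) (g' : X' ⟶ X)
    (f' : X' ⟶ Y') (hsq : IsPullback g' f' f g) (hf : FibNoeth f)
    (hg : LocP @LocallyOfFiniteType g) (x' : Points X') :
    (LocPAt (fun h u => Dual3.IsGorensteinAt h u) f (Points.map g' x') →
        LocPAt (fun h u => Dual3.IsGorensteinAt h u) f' x') ∧
      (IsFlatAtMor f (Points.map g' x') → LocPAt (fun h u => Dual3.IsGorensteinAt h u) f' x' →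
        LocPAt (fun h u => Dual3.IsGorensteinAt h u) f (Points.map g' x')) ∧
      (IsFlatAtMor g (Points.map f' x') → LocPAt (fun h u => Dual3.IsGorensteinAt h u) f' x' →
        LocPAt (fun h u => Dual3.IsGorensteinAt h u) f (Points.map g' x')) := by
  have hf' : FibNoeth f' := hf.of_isPullback hsq
  obtain ⟨V₀, qV, hqVe, hqVs⟩ := hY.atlas
  obtain ⟨U₀, qU, a₀, hqUe, hqUs, hcU⟩ := exists_chart_lift hX f qV hqVe hqVs
  obtain ⟨u, hux⟩ := surjective_ofPt qU hqUs (Points.map g' x')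
  obtain ⟨U'', V'', α'', β', π₁, π₂, ν₀, u'', hα'', hβ', c1, c2, c3, sqU, hu1, hu2⟩ :=
    Groth.Agent.Helper15.ChartBC.exists_chart_baseChange hY hY' hsq qU qV a₀ hqUe hqVe hcU u x' hux
  haveI : LocallyOfFiniteType ν₀.left := hg β' qV ν₀ hβ' hqVe c3
  have hA := isLocallyNoetherian_chart_fiber hX hY f hf qU qV a₀ hqUe hqVe hcU
  obtain ⟨h1, h2, h3⟩ := Groth.Agent.Helper12.GorBC.isGorensteinAt_baseChange sqU hA u''
  rw [hu1] at h1 h2 h3
  have hfx : Points.map f' x' = Points.ofPt β' (π₂.left u'') := by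
    rw [← hu2, Points.map_ofPt, c1, ofPt_comp_yon_map]
  rw [← hux, locPAt_gor_iff hX hY f hf qU qV a₀ hqUe hqVe hcU u]
  have e' : LocPAt (fun h u => Dual3.IsGorensteinAt h u) f' x' ↔
      Dual3.IsGorensteinAt π₂.left u'' := by
    rw [← hu2]
    exact locPAt_gor_iff hX' hY' f' hf' α'' β' π₂ hα'' hβ' c1 u''
  rw [e']
  refine ⟨h1, fun hfl => h2 (hfl qU qV a₀ u hqUe hqVe hcU rfl), fun hgl => h3 ?_⟩
  exact hgl β' qV ν₀ (π₂.left u'') hβ' hqVe c3 hfx.symm

end Groth.Agent.Helper19.GorSp
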