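import Groth.Agent.Lib.Helper12.GorSchComp
import Groth.Agent.Lib.Helper12.GorBC2
import Groth.Agent.Lib.Helper12.EtStalk

set_option autoImplicit false
set_option linter.style.haveILetI false
universe u
open CategoryTheory CategoryTheory.Limits AlgebraicGeometry

namespace Groth.Agent.Helper19.GorSp

/-- an etale morphism is Gorenstein at every point -/
theorem isGorensteinAt_etale {X Y : Scheme.{u}} (e : X ⟶ Y) [Etale e] (x : X) :
    Dual3.IsGorensteinAt e x :=
  ⟨Flat.stalkMap e x, Groth.Agent.Helper12.EtStalk.gor_of_maximalIdeal_eq_bot _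
    (Groth.Agent.Helper12.EtStalk.maximalIdeal_fibre_stalk_eq_bot e x)⟩

/-- the fibres of a morphism locally of finite type over a field are locally Noetherian -/
theorem isLocallyNoetherian_fiber_of_lft {X Y : Scheme.{u}} (e : X ⟶ Y) [LocallyOfFiniteType e]
    (y : Y) : IsLocallyNoetherian (e.fiber y) := by
  haveI : LocallyOfFiniteType (e.fiberToSpecResidueField y) :=
    MorphismProperty.pullback_snd (P := @LocallyOfFiniteType) _ _ inferInstance
  exact LocallyOfFiniteType.isLocallyNoetherian (e.fiberToSpecResidueField y)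

/-- the fibres of `e ≫ f` with `e` locally of finite type are locally Noetherian if those of `f`
are -/
theorem isLocallyNoetherian_fiber_lft_comp {X' X Y : Scheme.{u}} (e : X' ⟶ X)
    [LocallyOfFiniteType e] (f : X ⟶ Y) (z : Y) [IsLocallyNoetherian (f.fiber z)] :
    IsLocallyNoetherian ((e ≫ f).fiber z) := by
  let i := pullbackRightPullbackFstIso f (Y.fromSpecResidueField z) e
  haveI : LocallyOfFiniteType (pullback.snd e (pullback.fst f (Y.fromSpecResidueField z))) :=
    MorphismProperty.pullback_snd (P := @LocallyOfFiniteType) _ _ inferInstance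
  haveI : IsLocallyNoetherian (pullback f (Y.fromSpecResidueField z)) :=
    inferInstanceAs (IsLocallyNoetherian (f.fiber z))
  haveI : IsLocallyNoetherian (pullback e (pullback.fst f (Y.fromSpecResidueField z))) :=
    LocallyOfFiniteType.isLocallyNoetherian
      (pullback.snd e (pullback.fst f (Y.fromSpecResidueField z)))
  exact isLocallyNoetherian_of_isOpenImmersion i.inv

/-- precomposition with an etale morphism does not change Gorenstein-ness at a point -/
theorem gorAt_etale_comp {X' X Y : Scheme.{u}} (e : X' ⟶ X) [Etale e] (f : X ⟶ Y)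
    (hfib : ∀ y, IsLocallyNoetherian (f.fiber y)) (x' : X') :
    Dual3.IsGorensteinAt (e ≫ f) x' ↔ Dual3.IsGorensteinAt f (e x') := by
  have hfib' : ∀ z, IsLocallyNoetherian ((e ≫ f).fiber z) := fun z => by
    haveI := hfib z
    exact isLocallyNoetherian_fiber_lft_comp e f z
  obtain ⟨h1, h2⟩ := Groth.Agent.Helper12.GorSch.comp e f hfib hfib' x'
  exact ⟨fun h => (h2 h (Flat.stalkMap e x')).2, fun h => h1 (isGorensteinAt_etale e x') h⟩

/-- base change along an etale morphism does not change Gorenstein-ness at a point -/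
theorem gorAt_baseChange_etale {X Y X' Y' : Scheme.{u}} {f : X ⟶ Y} {g : Y' ⟶ Y} {f' : X' ⟶ Y'}
    {g' : X' ⟶ X} (hsq : IsPullback g' f' f g) [Etale g]
    (hfib : ∀ y, IsLocallyNoetherian (f.fiber y)) (x' : X') :
    Dual3.IsGorensteinAt f' x' ↔ Dual3.IsGorensteinAt f (g' x') := by
  obtain ⟨h1, -, h3⟩ := Groth.Agent.Helper12.GorBC.isGorensteinAt_baseChange hsq hfib x'
  exact ⟨h3 (Flat.stalkMap g (f' x')), h1⟩

/-- the fibres of a base change along a morphism locally of finite type are locally Noetherian -/
theorem isLocallyNoetherian_fiber_baseChange {X Y X' Y' : Scheme.{u}} {f : X ⟶ Y} {g : Y' ⟶ Y}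
    {f' : X' ⟶ Y'} {g' : X' ⟶ X} (hsq : IsPullback g' f' f g) [LocallyOfFiniteType g]
    (hfib : ∀ y, IsLocallyNoetherian (f.fiber y)) (y' : Y') :
    IsLocallyNoetherian (f'.fiber y') := by
  haveI := hfib (g y')
  exact Groth.Agent.Helper12.GorBC.isLocallyNoetherian_fiber_baseChange hsq y'
    (Groth.Agent.Helper12.GorBC.essFiniteType_residueFieldMap g y')

end Groth.Agent.Helper19.GorSp
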